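import Cfsg.Agent.Lib.PiHom.UnitaryClasses
import Cfsg.Agent.Lib.RankTwoTypes.Simple
import Cfsg.Prelude.Def_Transfer

/-!
# 2-nilpotent involution centralisers and the Sylow 2-subgroup of type `PSU₃(4)`: local facts
-/

set_option autoImplicit false
set_option linter.style.haveILetI false

namespace CfsgLib.TwoNil

open CfsgLib.PiHom
open CfsgLib.InvCharSixtyFour (HermLike)

universe u

/-- A non-abelian simple group all of whose involution centralisers have normal 2-complements. -/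
structure Hyp (G : Type u) [Group G] [Finite G] : Prop where
  simple : IsSimpleGroup G
  nonab : ¬ IsMulCommutative G
  nil : ∀ t : G, orderOf t = 2 → Cfsg.HasNormalPComplement 2 ↥(Subgroup.centralizer ({t} : Set G))

variable {G : Type u} [Group G] [Finite G]

namespace Hyp

variable (hc : Hyp G) (S : Sylow 2 G) (h : HermLike ↥(S : Subgroup G) 4)
include hc h

theorem card_zInv : Nat.card ↥(zInv (S : Subgroup G)) = 4 := by
  rw [← h.card_center]
  exact Nat.card_congr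
    { toFun := fun a => ⟨⟨a.1, a.2.1⟩, (Crit.mem_center_iff S h _).2 a.2⟩
      invFun := fun a => ⟨a.1.1, (Crit.mem_center_iff S h _).1 a.2⟩
      left_inv := fun _ => rfl
      right_inv := fun _ => rfl }

theorem mem_zInv_of_sq {t : G} (ht : t ∈ (S : Subgroup G)) (ht2 : t * t = 1) :
    t ∈ zInv (S : Subgroup G) :=
  (Crit.mem_center_iff S h ⟨t, ht⟩).1 (h.sq_one _ (Subtype.ext ht2))

omit hc in
theorem two_dvd : 2 ∣ Nat.card G := by
  refine (?_ : 2 ∣ Nat.card ↥(S : Subgroup G)).trans (S : Subgroup G).card_subgroup_dvd_card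
  rw [h.card]; norm_num

theorem exists_zInv_pair :
    ∃ x y : G, x ∈ zInv (S : Subgroup G) ∧ y ∈ zInv (S : Subgroup G) ∧ x ≠ 1 ∧ y ≠ 1 ∧ x ≠ y := by
  classical
  letI := Fintype.ofFinite ↥(zInv (S : Subgroup G))
  have h4 : Fintype.card ↥(zInv (S : Subgroup G)) = 4 := by
    rw [← Nat.card_eq_fintype_card, hc.card_zInv S h]
  have h3 : 2 < ((Finset.univ : Finset ↥(zInv (S : Subgroup G))).erase 1).card + 0 := by
    rw [Finset.card_erase_of_mem (Finset.mem_univ _), Finset.card_univ, h4]; norm_num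
  obtain ⟨x, hx, y, hy, hxy⟩ := Finset.one_lt_card.1 (show 1 < ((Finset.univ :
    Finset ↥(zInv (S : Subgroup G))).erase 1).card by omega)
  exact ⟨x, y, x.2, y.2, fun e => (Finset.mem_erase.1 hx).1 (Subtype.ext e),
    fun e => (Finset.mem_erase.1 hy).1 (Subtype.ext e), fun e => hxy (Subtype.ext e)⟩

omit hc h [Finite G] in
theorem mem_centralizer_of_mem_zInv {a s : G} (ha : a ∈ zInv (S : Subgroup G))
    (hs : s ∈ (S : Subgroup G)) : s ∈ Subgroup.centralizer ({a} : Set G) :=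
  le_centralizer_of_mem_zInv ha hs

omit h in
/-- The normal 2-complement of an involution centraliser. -/
theorem exists_complement {a : G} (ha : a ∈ zInv (S : Subgroup G)) (ha1 : a ≠ 1) :
    ∃ O : Subgroup G, O ≤ Subgroup.centralizer ({a} : Set G) ∧
      Subgroup.centralizer ({a} : Set G) ≤ Subgroup.normalizer (O : Set G) ∧ Odd (Nat.card ↥O) ∧
      ∀ g ∈ Subgroup.centralizer ({a} : Set G), ∃ t ∈ (S : Subgroup G), ∃ o ∈ O, g = t * o := by
  haveI : Fact (Nat.Prime 2) := ⟨Nat.prime_two⟩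
  set C := Subgroup.centralizer ({a} : Set G) with hC
  have hSC : (S : Subgroup G) ≤ C := le_centralizer_of_mem_zInv ha
  obtain ⟨P, N, hNn, hNc⟩ := hc.nil a (orderOf_of_mem_zInv ha ha1)
  haveI := hNn
  have hodd : Odd (Nat.card ↥N) := by
    have h2 := P.not_dvd_index
    rw [hNc.index_eq_card] at h2
    exact Nat.odd_iff.2 (Nat.two_dvd_ne_zero.1 h2)
  have hPS : Nat.card ↥((S.subtype hSC : Sylow 2 C) : Subgroup C) = Nat.card ↥(P : Subgroup C) := by
    rw [(S.subtype hSC).card_eq_multiplicity, P.card_eq_multiplicity]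
  have hcard := hNc.card_mul_card
  rw [← hPS] at hcard
  have hcop : Nat.Coprime (Nat.card ↥N) (Nat.card ↥((S.subtype hSC : Sylow 2 C) : Subgroup C)) := by
    obtain ⟨k, hk⟩ := IsPGroup.iff_card.1 (S.subtype hSC).isPGroup'
    rw [hk]
    exact Nat.Coprime.pow_right k (Nat.coprime_two_right.2 hodd)
  have hcompl := Subgroup.isComplement'_of_coprime hcard hcop
  refine ⟨N.map C.subtype, Subgroup.map_subtype_le _, ?_, ?_, fun g hg => ?_⟩
  · intro g hg
    rw [Subgroup.mem_normalizer_iff]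
    intro x
    constructor
    · rintro ⟨y, hy, rfl⟩
      exact ⟨⟨g, hg⟩ * y * ⟨g, hg⟩⁻¹, hNn.conj_mem y hy _, rfl⟩
    · rintro ⟨y, hy, he⟩
      refine ⟨(⟨g, hg⟩ : C)⁻¹ * y * (⟨g, hg⟩⁻¹)⁻¹, hNn.conj_mem y hy _, ?_⟩
      simp only [map_mul, map_inv, inv_inv, Subgroup.coe_subtype] at he ⊢
      rw [he]; group
  · rw [Subgroup.card_map_of_injective C.subtype_injective]; exact hodd
  · obtain ⟨⟨t, o⟩, hto, -⟩ := hcompl.symm.existsUnique ⟨g, hg⟩
    refine ⟨((t : C) : G), ?_, ((o : C) : G), ⟨o, o.2, rfl⟩, (congrArg Subtype.val hto).symm⟩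
    have := t.2
    simpa [Sylow.coe_subtype, Subgroup.mem_subgroupOf] using this

omit hc h in
theorem burnside {a g : G} (ha : a ∈ zInv (S : Subgroup G)) (hb : g * a * g⁻¹ ∈ zInv (S : Subgroup G)) :
    ∃ n ∈ Subgroup.normalizer ((S : Subgroup G) : Set G), n * a * n⁻¹ = g * a * g⁻¹ := by
  haveI : Fact (Nat.Prime 2) := ⟨Nat.prime_two⟩
  obtain ⟨n, hn, he⟩ := S.conj_eq_normalizer_conj_of_mem_centralizer a g⁻¹
    (Subgroup.mem_centralizer_iff.2 fun s hs => ha.2.2 s hs)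
    (Subgroup.mem_centralizer_iff.2 fun s hs => by rw [inv_inv]; exact hb.2.2 s hs)
  exact ⟨n⁻¹, inv_mem hn, by rw [inv_inv] at he; rw [he, inv_inv]⟩

/-- Fusion in `S` is controlled by its normaliser. -/
theorem fusion {s g : G} (hs : s ∈ (S : Subgroup G)) (ht : g * s * g⁻¹ ∈ (S : Subgroup G)) (hs1 : s ≠ 1) :
    ∃ n ∈ Subgroup.normalizer ((S : Subgroup G) : Set G), n * s * n⁻¹ = g * s * g⁻¹ := by
  haveI : Fact (Nat.Prime 2) := ⟨Nat.prime_two⟩
  by_cases h2 : s * s = 1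
  · refine burnside S (hc.mem_zInv_of_sq S h hs h2) (hc.mem_zInv_of_sq S h ht ?_)
    rw [show g * s * g⁻¹ * (g * s * g⁻¹) = g * (s * s) * g⁻¹ by group, h2]; group
  set a := s * s with hadef
  have ha : a ∈ zInv (S : Subgroup G) := (Crit.mem_center_iff S h _).1 (h.sq_mem ⟨s, hs⟩)
  have hb : g * a * g⁻¹ ∈ zInv (S : Subgroup G) := by
    rw [show g * a * g⁻¹ = g * s * g⁻¹ * (g * s * g⁻¹) by rw [hadef]; group]
    exact (Crit.mem_center_iff S h _).1 (h.sq_mem ⟨_, ht⟩)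
  obtain ⟨n, hn, hna⟩ := burnside S ha hb
  have hg' : n⁻¹ * g ∈ Subgroup.centralizer ({a} : Set G) := by
    rw [Subgroup.mem_centralizer_singleton_iff]
    calc n⁻¹ * g * a = n⁻¹ * (g * a * g⁻¹) * g := by group
      _ = a * (n⁻¹ * g) := by rw [← hna]; group
  obtain ⟨O, hO1, hO2, hO3, hO4⟩ := hc.exists_complement S ha h2
  obtain ⟨σ, hσ, o, ho, he⟩ := hO4 _ hg'
  have hσN := Subgroup.le_normalizer hσ
  have hu : o * s * o⁻¹ ∈ (S : Subgroup G) := by
    have h1 := (Subgroup.mem_normalizer_iff.1 ((Subgroup.normalizer ((S : Subgroup G) : Set G)).inv_mem (mul_mem hn hσN)) _).1 ht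
    have hge : g = n * σ * o := by rw [mul_assoc, ← he]; group
    rw [hge, show (n * σ)⁻¹ * (n * σ * o * s * (n * σ * o)⁻¹) * (n * σ)⁻¹⁻¹ = o * s * o⁻¹ by group] at h1
    exact h1
  have hmem : o * s * o⁻¹ * s⁻¹ ∈ O ⊓ (S : Subgroup G) := by
    refine ⟨?_, mul_mem hu ((S : Subgroup G).inv_mem hs)⟩
    rw [show o * s * o⁻¹ * s⁻¹ = o * (s * o⁻¹ * s⁻¹) by group]
    exact mul_mem ho ((Subgroup.mem_normalizer_iff.1
      (hO2 (le_centralizer_of_mem_zInv ha hs)) _).1 (O.inv_mem ho))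
  rw [inf_eq_bot_of_odd S.isPGroup' hO3, Subgroup.mem_bot, mul_inv_eq_one] at hmem
  refine ⟨n * σ, mul_mem hn hσN, ?_⟩
  have hge : g = n * σ * o := by rw [mul_assoc, ← he]; group
  rw [hge, show n * σ * o * s * (n * σ * o)⁻¹ = n * σ * (o * s * o⁻¹) * (n * σ)⁻¹ by group, hmem]

/-- No central involution of `S` is fixed by the normaliser of `S`. -/
theorem exists_moved {z : G} (hz : z ∈ zInv (S : Subgroup G)) (hz1 : z ≠ 1) :
    ∃ n ∈ Subgroup.normalizer ((S : Subgroup G) : Set G), n * z * n⁻¹ ≠ z := by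
  haveI := hc.simple
  haveI : Fact (Nat.Prime 2) := ⟨Nat.prime_two⟩
  by_contra hcon
  push Not at hcon
  refine RankTwoTypes.no_isolated hc.nonab z ⟨orderOf_of_mem_zInv hz hz1, fun g hg => ?_⟩
  set z' := g * z * g⁻¹ with hz'
  -- `⟨z, z'⟩` is a 2-group
  set T := Subgroup.closure ({z, z'} : Set G) with hTdef
  have hzz : z' * z' = 1 := by
    rw [hz', show g * z * g⁻¹ * (g * z * g⁻¹) = g * (z * z) * g⁻¹ by group, hz.2.1, mul_one,
      mul_inv_cancel]
  have hT : IsPGroup 2 ↥T := by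
    have hmem : ∀ x ∈ T, x * x = 1 ∧ Commute x z ∧ Commute x z' := by
      intro x hx
      induction hx using Subgroup.closure_induction with
      | mem y hy =>
        rcases hy with rfl | rfl
        · exact ⟨hz.2.1, Commute.refl _, hg⟩
        · exact ⟨hzz, hg.symm, Commute.refl _⟩
      | one => exact ⟨one_mul 1, Commute.one_left _, Commute.one_left _⟩
      | mul a b hA hB ha hb =>
        have hab : Commute a b := by
          refine Subgroup.closure_induction (p := fun y _ => Commute a y) ?_ (Commute.one_right a)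
            (fun _ _ _ _ h1 h2 => h1.mul_right h2) (fun _ _ h1 => h1.inv_right) hB
          rintro y (rfl | rfl)
          exacts [ha.2.1, ha.2.2]
        refine ⟨?_, ha.2.1.mul_left hb.2.1, ha.2.2.mul_left hb.2.2⟩
        rw [show a * b * (a * b) = a * (b * a) * b by group, ← hab.eq,
          show a * (a * b) * b = (a * a) * (b * b) by group, ha.1, hb.1, one_mul]
      | inv a _ ha =>
        rw [inv_eq_of_mul_eq_one_right ha.1]
        exact ha
    intro x
    exact ⟨1, Subtype.ext (by simpa [pow_two] using (hmem x x.2).1)⟩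
  obtain ⟨e, he⟩ := exists_le_conjBy hT S
  have h1 := conjBy_inv_le he
  have hzS : e⁻¹ * z * e⁻¹⁻¹ ∈ (S : Subgroup G) :=
    conjBy_le.1 h1 z (Subgroup.subset_closure (Set.mem_insert _ _))
  have hz'S : (e⁻¹ * g) * z * (e⁻¹ * g)⁻¹ ∈ (S : Subgroup G) := by
    have := conjBy_le.1 h1 z' (Subgroup.subset_closure (Set.mem_insert_of_mem _ rfl))
    rw [hz'] at this
    simpa [mul_assoc] using this
  have key : ∀ c : G, c * z * c⁻¹ ∈ (S : Subgroup G) → c * z * c⁻¹ = z := by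
    intro c hcS
    obtain ⟨n, hn, hnc⟩ := hc.fusion S h hz.1 hcS hz1
    rw [← hnc]
    exact hcon n hn
  have e1 := key _ hzS
  have e2 := key _ hz'S
  calc g * z * g⁻¹ = e * ((e⁻¹ * g) * z * (e⁻¹ * g)⁻¹) * e⁻¹ := by group
    _ = e * (e⁻¹ * z * e⁻¹⁻¹) * e⁻¹ := by rw [e1, e2]
    _ = z := by group

omit hc h in
theorem pow_mem_sylow {n : G} (hn : n ∈ Subgroup.normalizer ((S : Subgroup G) : Set G)) :
    ∃ m : ℕ, Odd m ∧ n ^ m ∈ (S : Subgroup G) := by
  haveI : Fact (Nat.Prime 2) := ⟨Nat.prime_two⟩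
  set N := Subgroup.normalizer ((S : Subgroup G) : Set G)
  haveI : ((S : Subgroup G).subgroupOf N).Normal :=
    Subgroup.normal_subgroupOf_of_le_normalizer le_rfl
  refine ⟨((S : Subgroup G).subgroupOf N).index, Nat.not_even_iff_odd.1 fun he => ?_, ?_⟩
  · have h1 : ((S : Subgroup G).relIndex N) ∣ (S : Subgroup G).index :=
      Subgroup.relIndex_dvd_index_of_le Subgroup.le_normalizer
    exact S.not_dvd_index (he.two_dvd.trans h1)
  · have h1 := Subgroup.pow_index_mem ((S : Subgroup G).subgroupOf N) ⟨n, hn⟩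
    rwa [Subgroup.mem_subgroupOf, Subgroup.coe_pow] at h1

/-- An element of `N(S)` fixing one involution of `S` fixes all. -/
theorem fix_all {n a b : G} (hn : n ∈ Subgroup.normalizer ((S : Subgroup G) : Set G))
    (ha : a ∈ zInv (S : Subgroup G)) (ha1 : a ≠ 1) (hfix : n * a * n⁻¹ = a)
    (hb : b ∈ zInv (S : Subgroup G)) : n * b * n⁻¹ = b := by
  by_cases hb1 : b = 1
  · simp [hb1]
  by_cases hab : a = b
  · rw [← hab, hfix]
  obtain ⟨m, ⟨k, hk⟩, hm⟩ := pow_mem_sylow S hn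
  have h2 : Commute (n ^ 2) b := by
    have hsq : n ^ 2 * b * (n ^ 2)⁻¹ = n * (n * b * n⁻¹) * n⁻¹ := by rw [pow_two]; group
    refine conj_fix_iff.1 ?_
    rw [hsq]
    rcases zInv_cases (hc.card_zInv S h) ha ha1 hb hb1 hab (conj_mem_zInv hn hb) with h | h | h | h
    · exact absurd (conj_eq_one_iff.1 h) hb1
    · refine absurd ?_ hab
      exact mul_left_cancel (a := n) (mul_right_cancel (b := n⁻¹) (hfix.trans h.symm))
    · rw [h, h]
    · rw [h, show n * (a * b) * n⁻¹ = (n * a * n⁻¹) * (n * b * n⁻¹) by group, hfix, h,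
        ← mul_assoc, ha.2.1, one_mul]
  have hmb : Commute (n ^ m) b := hb.2.2 _ hm
  rw [hk, pow_add, pow_mul, pow_one] at hmb
  rw [conj_fix_iff]
  have h3 : Commute (((n ^ 2) ^ k)⁻¹ * ((n ^ 2) ^ k * n)) b :=
    ((h2.pow_left k).inv_left).mul_left hmb
  rwa [inv_mul_cancel_left] at h3

theorem mem_fixer_of_fix {n a : G} (hn : n ∈ Subgroup.normalizer ((S : Subgroup G) : Set G))
    (ha : a ∈ zInv (S : Subgroup G)) (ha1 : a ≠ 1) (hfix : n * a * n⁻¹ = a) :
    n ∈ fixer (S : Subgroup G) :=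
  ⟨hn, Subgroup.mem_centralizer_iff.2 fun _ hb =>
    (conj_fix_iff.1 (hc.fix_all S h hn ha ha1 hfix hb)).symm⟩

omit hc h [Finite G] in
theorem fixer_fix {n a : G} (hn : n ∈ fixer (S : Subgroup G)) (ha : a ∈ zInv (S : Subgroup G)) :
    n * a * n⁻¹ = a := conj_fix_iff.2 (Subgroup.mem_centralizer_iff.1 hn.2 a ha).symm

/-- `N(S)` contains a cycle on the three involutions. -/
theorem exists_cycle : ∃ x ∈ Subgroup.normalizer ((S : Subgroup G) : Set G),
    ∀ a ∈ zInv (S : Subgroup G), a ≠ 1 → x * a * x⁻¹ ≠ a := by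
  obtain ⟨z, -, hz, -, hz1, -, -⟩ := hc.exists_zInv_pair S h
  obtain ⟨x, hx, hxz⟩ := hc.exists_moved S h hz hz1
  exact ⟨x, hx, fun a ha ha1 hf => hxz (hc.fix_all S h hx ha ha1 hf hz)⟩

theorem cycle_apply {x a : G} (hx : x ∈ Subgroup.normalizer ((S : Subgroup G) : Set G))
    (hcyc : ∀ a ∈ zInv (S : Subgroup G), a ≠ 1 → x * a * x⁻¹ ≠ a)
    (ha : a ∈ zInv (S : Subgroup G)) (ha1 : a ≠ 1) :
    x * (x * a * x⁻¹) * x⁻¹ = a * (x * a * x⁻¹) ∧ x * (a * (x * a * x⁻¹)) * x⁻¹ = a := by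
  set b := x * a * x⁻¹ with hbdef
  have hb : b ∈ zInv (S : Subgroup G) := conj_mem_zInv hx ha
  have hb1 : b ≠ 1 := fun h => ha1 (conj_eq_one_iff.1 h)
  have hab : a ≠ b := fun h => hcyc a ha ha1 h.symm
  have hstep : x * b * x⁻¹ = a * b := by
    rcases zInv_cases (hc.card_zInv S h) ha ha1 hb hb1 hab (conj_mem_zInv hx hb) with h | h | h | h
    · exact absurd (conj_eq_one_iff.1 h) hb1
    · exfalso
      refine hcyc (a * b) (mul_mem ha hb) (fun h0 => hab ?_) ?_
      · rw [← inv_eq_of_mul_eq_one_right h0, inv_eq_of_mul_eq_one_right ha.2.1]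
      · rw [show x * (a * b) * x⁻¹ = (x * a * x⁻¹) * (x * b * x⁻¹) by group, h, ← hbdef,
          zInv_comm hb ha]
    · exact absurd h (hcyc b hb hb1)
    · exact h
  refine ⟨hstep, ?_⟩
  rw [show x * (a * b) * x⁻¹ = (x * a * x⁻¹) * (x * b * x⁻¹) by group, hstep, ← hbdef,
    zInv_comm ha hb, ← mul_assoc, hb.2.1, one_mul]

theorem cube_mem_fixer {n : G} (hn : n ∈ Subgroup.normalizer ((S : Subgroup G) : Set G)) :
    n ^ 3 ∈ fixer (S : Subgroup G) := by
  obtain ⟨z, -, hz, -, hz1, -, -⟩ := hc.exists_zInv_pair S h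
  refine hc.mem_fixer_of_fix S h (pow_mem hn 3) hz hz1 ?_
  by_cases hf : ∀ a ∈ zInv (S : Subgroup G), a ≠ 1 → n * a * n⁻¹ ≠ a
  · obtain ⟨h1, h2⟩ := hc.cycle_apply S h hn hf hz hz1
    calc n ^ 3 * z * (n ^ 3)⁻¹ = n * (n * (n * z * n⁻¹) * n⁻¹) * n⁻¹ := by
          rw [pow_succ, pow_two]; group
      _ = z := by rw [h1, h2]
  · push Not at hf
    obtain ⟨a, ha, ha1, hfix⟩ := hf
    exact conj_fix_iff.2 (Commute.pow_left (conj_fix_iff.1 (hc.fix_all S h hn ha ha1 hfix hz)) 3)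

theorem exists_coset {x : G} (hx : x ∈ Subgroup.normalizer ((S : Subgroup G) : Set G))
    (hcyc : ∀ a ∈ zInv (S : Subgroup G), a ≠ 1 → x * a * x⁻¹ ≠ a)
    {m : G} (hm : m ∈ Subgroup.normalizer ((S : Subgroup G) : Set G)) :
    ∃ i : Fin 3, (x ^ (i : ℕ))⁻¹ * m ∈ fixer (S : Subgroup G) := by
  obtain ⟨a, -, ha, -, ha1, -, -⟩ := hc.exists_zInv_pair S h
  obtain ⟨h1, h2⟩ := hc.cycle_apply S h hx hcyc ha ha1
  have key : ∀ i : Fin 3, m * a * m⁻¹ = x ^ (i : ℕ) * a * (x ^ (i : ℕ))⁻¹ →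
      (x ^ (i : ℕ))⁻¹ * m ∈ fixer (S : Subgroup G) := fun i hi => by
    refine hc.mem_fixer_of_fix S h (mul_mem (inv_mem (pow_mem hx _)) hm) ha ha1 ?_
    calc (x ^ (i : ℕ))⁻¹ * m * a * ((x ^ (i : ℕ))⁻¹ * m)⁻¹
        = (x ^ (i : ℕ))⁻¹ * (m * a * m⁻¹) * x ^ (i : ℕ) := by group
      _ = a := by rw [hi]; group
  rcases zInv_cases (hc.card_zInv S h) ha ha1 (conj_mem_zInv hx ha)
      (fun h => ha1 (conj_eq_one_iff.1 h)) (fun h => hcyc a ha ha1 h.symm) (conj_mem_zInv hm ha)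
    with h | h | h | h
  · exact absurd (conj_eq_one_iff.1 h) ha1
  · exact ⟨0, key 0 (by simpa using h)⟩
  · exact ⟨1, key 1 (by simpa using h)⟩
  · refine ⟨2, key 2 ?_⟩
    rw [h, ← h1]
    simp only [Fin.val_two, pow_two]
    group

/-- Elements of odd order in the fixer centralise `S`. -/
theorem odd_commute {n : G} (hn : n ∈ fixer (S : Subgroup G)) (hodd : Odd (orderOf n)) {s : G}
    (hs : s ∈ (S : Subgroup G)) : n * s = s * n := by
  haveI : Fact (Nat.Prime 2) := ⟨Nat.prime_two⟩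
  obtain ⟨z, -, hz, -, hz1, -, -⟩ := hc.exists_zInv_pair S h
  obtain ⟨O, hO1, hO2, hO3, hO4⟩ := hc.exists_complement S hz hz1
  have hnC : n ∈ Subgroup.centralizer ({z} : Set G) :=
    Subgroup.mem_centralizer_singleton_iff.2 (Subgroup.mem_centralizer_iff.1 hn.2 z hz).symm
  have hnO : n ∈ O := by
    haveI : (O.subgroupOf (Subgroup.centralizer ({z} : Set G))).Normal :=
      Subgroup.normal_subgroupOf_of_le_normalizer hO2
    have hidx : (O.subgroupOf (Subgroup.centralizer ({z} : Set G))).index = 64 := by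
      rw [← Subgroup.relIndex, relIndex_eq_card S.isPGroup' hO3 (le_centralizer_of_mem_zInv hz) hO4,
        h.card]; norm_num
    have h1 : n ^ 64 ∈ O := by
      have h0 := Subgroup.pow_index_mem (O.subgroupOf (Subgroup.centralizer ({z} : Set G))) ⟨n, hnC⟩
      rwa [hidx, Subgroup.mem_subgroupOf, Subgroup.coe_pow] at h0
    obtain ⟨m, hm⟩ := exists_pow_eq_self_of_coprime (x := n) (n := 64) (by
      rw [show (64 : ℕ) = 2 ^ 6 by norm_num]
      exact Nat.Coprime.pow_left 6 (Nat.coprime_two_left.2 hodd))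
    rw [← hm]
    exact pow_mem h1 m
  have hmem : n * s * n⁻¹ * s⁻¹ ∈ O ⊓ (S : Subgroup G) := by
    refine ⟨?_, mul_mem ((Subgroup.mem_normalizer_iff.1 hn.1 s).1 hs) ((S : Subgroup G).inv_mem hs)⟩
    rw [show n * s * n⁻¹ * s⁻¹ = n * (s * n⁻¹ * s⁻¹) by group]
    exact mul_mem hnO ((Subgroup.mem_normalizer_iff.1
      (hO2 (le_centralizer_of_mem_zInv hz hs)) _).1 (O.inv_mem hnO))
  rw [inf_eq_bot_of_odd S.isPGroup' hO3, Subgroup.mem_bot, mul_inv_eq_one] at hmem
  exact conj_fix_iff.1 hmem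

/-- The fixer induces only inner automorphisms on `S`. -/
theorem psi_fixer {n : ↥(Subgroup.normalizer ((S : Subgroup G) : Set G))}
    (hn : (n : G) ∈ fixer (S : Subgroup G)) : psi (S : Subgroup G) n = 1 := by
  obtain ⟨m, ⟨k, hk⟩, hmS⟩ := pow_mem_sylow S n.2
  haveI : Fact (Nat.Prime 2) := ⟨Nat.prime_two⟩
  obtain ⟨j, hj⟩ := IsPGroup.iff_orderOf.1 S.isPGroup' (⟨(n : G) ^ m, hmS⟩ : ↥(S : Subgroup G))
  rw [Subgroup.orderOf_mk] at hj
  have h1 : psi (S : Subgroup G) n ^ m = 1 := by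
    rw [← map_pow, show n ^ m = ⟨(n : G) ^ m, Subgroup.le_normalizer hmS⟩ from Subtype.ext (by simp)]
    exact Crit.psi_eq_one_of_mem S h hmS
  have h2 : psi (S : Subgroup G) n ^ 2 ^ j = 1 := by
    rw [← map_pow]
    refine MulEquiv.ext fun v => ?_
    induction v using QuotientGroup.induction_on with
    | _ t =>
      rw [psi, MonoidHom.comp_apply, toV_mk, MulAut.one_apply]
      congr 1
      apply Subtype.ext
      rw [PiHom.normalizerMonoidHom_coe, Subgroup.coe_pow]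
      refine conj_fix_iff.2 (hc.odd_commute S h (pow_mem hn _) ?_ t.2)
      have h3 : ((n : G) ^ 2 ^ j) ^ m = 1 := by
        rw [← pow_mul, mul_comm, pow_mul, ← hj, pow_orderOf_eq_one]
      have hmodd : Odd m := ⟨k, hk⟩
      exact hmodd.of_dvd_nat (orderOf_dvd_of_pow_eq_one h3)
  have h4 : orderOf (psi (S : Subgroup G) n) ∣ Nat.gcd m (2 ^ j) :=
    Nat.dvd_gcd (orderOf_dvd_of_pow_eq_one h1) (orderOf_dvd_of_pow_eq_one h2)
  rw [Nat.Coprime.pow_right j (Nat.coprime_two_right.2 ⟨k, hk⟩), Nat.dvd_one] at h4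
  exact orderOf_eq_one_iff.1 h4

end Hyp

end CfsgLib.TwoNil
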