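import Cfsg.Agent.Lib.TwoNil.Unitary
import Cfsg.Agent.Lib.CoreKill.Applications
import Cfsg.Agent.Lib.CITThree.Main
import Cfsg.Agent.Lib.GWCons.RankOneCover
import Cfsg.Agent.S0144
import Cfsg.Agent.S0205
import Cfsg.Agent.S0348
import Cfsg.Agent.S1213
import Cfsg.Agent.S1221

/-!
# Simple groups in which every involution centraliser has a normal 2-complement

Modulo the classification of the perfect groups with dihedral Sylow 2-subgroups.
-/

set_option autoImplicit false
set_option linter.style.haveILetI false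

namespace CfsgLib.TwoNil

open Subgroup
open CfsgLib.GWCons.RankOneCover (DihedralClassification)

universe u

variable {G : Type u} [Group G] [Finite G]

/-- The complement of a Sylow 2-subgroup has odd order. -/
theorem odd_card_complement {C : Type u} [Group C] [Finite C] {P : Sylow 2 C} {N : Subgroup C}
    (hc : N.IsComplement' (P : Subgroup C)) : Odd (Nat.card N) := by
  haveI : Fact (Nat.Prime 2) := ⟨Nat.prime_two⟩
  have h2 := P.not_dvd_index
  rw [hc.index_eq_card] at h2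
  exact Nat.odd_iff.2 (Nat.two_dvd_ne_zero.1 h2)

theorem quotient_isPGroup {C : Type u} [Group C] [Finite C] {P : Sylow 2 C} {N : Subgroup C}
    [N.Normal] (hc : N.IsComplement' (P : Subgroup C)) : IsPGroup 2 (C ⧸ N) := by
  obtain ⟨k, hk⟩ := IsPGroup.iff_card.1 P.isPGroup'
  exact IsPGroup.of_card (n := k) (by rw [← index_eq_card, hc.symm.index_eq_card, hk])

theorem Hyp.solvable (hc : Hyp G) (t : G) (ht : orderOf t = 2) :
    Group.IsSolvable (centralizer ({t} : Set G)) := by
  haveI : Fact (Nat.Prime 2) := ⟨Nat.prime_two⟩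
  obtain ⟨P, N, hN, hPN⟩ := hc.nil t ht
  haveI := hN
  haveI : Group.IsSolvable N := Cfsg.Agent.S0205.result (odd_card_complement hPN)
  haveI := (quotient_isPGroup hPN).isNilpotent
  exact Group.isSolvable_of_ker_le_range N.subtype (QuotientGroup.mk' N)
    (by rw [QuotientGroup.ker_mk', Subgroup.range_subtype])

theorem Hyp.no_index_two (hc : Hyp G) (H : Subgroup G) : H.index ≠ 2 := by
  intro hH
  haveI := hc.simple
  haveI : Fact (Nat.Prime 2) := ⟨Nat.prime_two⟩
  rcases (normal_of_index_eq_two hH).eq_bot_or_eq_top with rfl | rfl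
  · rw [index_bot] at hH
    haveI := isCyclic_of_prime_card hH
    exact hc.nonab IsCyclic.isMulCommutative
  · rw [index_top] at hH; omega

theorem Hyp.exists_ne_comm (hc : Hyp G) : ∃ a b : G, a * b ≠ b * a := by
  by_contra h
  push Not at h
  exact hc.nonab ⟨⟨h⟩⟩

theorem Hyp.two_dvd_card (hc : Hyp G) : 2 ∣ Nat.card G := by
  haveI := hc.simple
  by_contra h
  have := Cfsg.Agent.S0205.result (G := G) (Nat.odd_iff.2 (Nat.two_dvd_ne_zero.1 h))
  exact CfsgLib.CIT.not_isSolvable_of_simple hc.exists_ne_comm this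

/-- A group of 2-power index has a subgroup of index two, unless it is everything. -/
theorem exists_index_two {K R : Type u} [Group K] [Finite K] [Group R] [Finite R] (f : K →* R)
    (hR : IsPGroup 2 R) (hne : f.range ≠ ⊥) : ∃ H : Subgroup K, H.index = 2 := by
  haveI : Fact (Nat.Prime 2) := ⟨Nat.prime_two⟩
  obtain ⟨k, hk⟩ := IsPGroup.iff_card.1 (hR.to_subgroup f.range)
  rcases k with _ | k
  · exact absurd (eq_bot_of_card_eq _ (by rw [hk, pow_zero])) hne
  obtain ⟨M, hM⟩ := Sylow.exists_subgroup_card_pow_prime 2 (n := k) (G := f.range)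
    (by rw [hk]; exact pow_dvd_pow 2 (Nat.le_succ k))
  refine ⟨M.comap f.rangeRestrict, ?_⟩
  rw [index_comap_of_surjective _ f.rangeRestrict_surjective]
  have h1 := M.card_mul_index
  rw [hM, hk, pow_succ] at h1
  exact Nat.eq_of_mul_eq_mul_left (pow_pos two_pos k) h1

/-- Semidihedral and wreathed Sylow 2-subgroups do not occur. -/
theorem Hyp.no_qd_wreathed (hc : Hyp G) (S : Sylow 2 G)
    (hS : Cfsg.IsQuasiDihedral (S : Subgroup G) ∨ Cfsg.IsWreathed (S : Subgroup G)) : False := by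
  haveI : Fact (Nat.Prime 2) := ⟨Nat.prime_two⟩
  obtain ⟨z, hz⟩ := exists_prime_orderOf_dvd_card' 2 hc.two_dvd_card
  obtain ⟨R, -, ⟨K, hKn, -, hK2, hKP⟩, -⟩ := Cfsg.Agent.S1213.result S hS hc.no_index_two z hz
  obtain ⟨P, N, hN, hPN⟩ := hc.nil z hz
  haveI := hN
  have hne : ((QuotientGroup.mk' N).comp K.subtype).range ≠ ⊥ := by
    intro h
    rw [MonoidHom.range_comp, Subgroup.range_subtype, Subgroup.map_eq_bot_iff,
      QuotientGroup.ker_mk'] at h
    obtain ⟨Q⟩ := (inferInstance : Nonempty (Sylow 2 ↥K))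
    obtain ⟨m, hm, ⟨e⟩⟩ := hKP Q
    haveI : NeZero (2 ^ m) := ⟨by positivity⟩
    have h4 : Nat.card ↥(Q : Subgroup ↥K) = 4 * 2 ^ m := by
      rw [Nat.card_congr e.toEquiv, Nat.card_eq_fintype_card, QuaternionGroup.card]
    have h2 : 2 ∣ Nat.card ↥N :=
      ((dvd_mul_of_dvd_left (by norm_num) _ : 2 ∣ 4 * 2 ^ m).trans
        (h4 ▸ (Q : Subgroup ↥K).card_subgroup_dvd_card)).trans (card_dvd_of_le h)
    exact Nat.not_even_iff_odd.2 (odd_card_complement hPN) (even_iff_two_dvd.2 h2)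
  obtain ⟨H, hH⟩ := exists_index_two _ (quotient_isPGroup hPN) hne
  exact hK2 H hH

/-- The Sylow 2-subgroup is not of type `PSU₃(4)`. -/
theorem Hyp.no_unitary (hc : Hyp G) (S : Sylow 2 G) {F : Type} [Field F] [Fintype F]
    (hF : Fintype.card F = 16) (P : Sylow 2 (Cfsg.PSU 3 F 4))
    (e : (S : Subgroup G) ≃* (P : Subgroup (Cfsg.PSU 3 F 4))) : False := by
  have hF' : Fintype.card F = 4 ^ 2 := by rw [hF]; norm_num
  let _ := InvCharThree.hermGroup hF' (show Even 4 by decide)
  obtain ⟨g⟩ := InvCharThree.herm_equiv_sylow_psu hF' (show Even 4 by decide) (n := 2) rfl P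
  exact hc.no_hermLike S (InvCharSixtyFour.hermLike_of_equiv (g.trans e.symm)
    (InvCharSixtyFour.hermLike_herm hF' (show Even 4 by decide)))

/-- In 2-rank at least three the involution centralisers are 2-groups. -/
theorem Hyp.cit (hc : Hyp G) (h2 : ¬ Cfsg.PRankLE 2 2 G) (t : G) (ht : orderOf t = 2) :
    IsPGroup 2 (centralizer ({t} : Set G)) := by
  haveI := hc.simple
  haveI : Fact (Nat.Prime 2) := ⟨Nat.prime_two⟩
  obtain ⟨S⟩ := (inferInstance : Nonempty (Sylow 2 G))
  obtain ⟨U, hU⟩ := CfsgLib.CoreKill.exists_fourFrame S h2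
  have hC := CfsgLib.CoreKill.constrainedCentralizers_of_solvable (G := G) hc.solvable
  have hcore := hU.cores_eq_bot (fun K _ _ H hH => Cfsg.Agent.S1221.result H hH) hC
    (CfsgLib.CoreKill.oddCore_eq_bot_of_simple ht)
    (hU.allCovered hC fun N _ => hc.no_index_two N) t ht
  obtain ⟨P, N, hN, hPN⟩ := hc.nil t ht
  have h0 : Cfsg.pPrimeCore 2 ↥(centralizer ({t} : Set G)) = ⊥ :=
    (map_eq_bot_iff_of_injective _ (subtype_injective _)).1 hcore
  have hNbot : N = ⊥ := le_bot_iff.1 (h0 ▸ CfsgLib.PCore.le_pPrimeCore hN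
    (Nat.coprime_two_right.2 (odd_card_complement hPN)))
  obtain ⟨k, hk⟩ := IsPGroup.iff_card.1 P.isPGroup'
  refine IsPGroup.of_card (n := k) ?_
  rw [← hPN.card_mul_card, hNbot, Subgroup.card_bot, one_mul, hk]

theorem not_three_dvd_suzuki {q : ℕ} (hq : q % 3 = 2) :
    ¬ 3 ∣ q ^ 2 * (q ^ 2 + 1) * (q - 1) := by
  intro h
  have h1 : q ^ 2 % 3 = 1 := by rw [Nat.pow_mod, hq]
  have h2 : (q - 1) % 3 = 1 := by omega
  have h3 : (q ^ 2 * (q ^ 2 + 1) * (q - 1)) % 3 = 2 := by
    rw [Nat.mul_mod, Nat.mul_mod (q ^ 2), Nat.add_mod, h1, h2]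
  omega

/-- A Suzuki-order group with 2-group involution centralisers is a Suzuki group. -/
theorem Hyp.isoSuzuki (hc : Hyp G) (hcit : CfsgLib.CITThree.CIT G) (hs : Cfsg.IsSuzuki G) :
    Cfsg.Lie.IsoSuzuki G := by
  haveI := hc.simple
  haveI : Fact (Nat.Prime 2) := ⟨Nat.prime_two⟩
  obtain ⟨-, m, -, hm⟩ := hs
  obtain ⟨h2, hO, -⟩ := CfsgLib.CIT.simple_cores hc.exists_ne_comm
  refine CfsgLib.CITThree.isoSuzuki hcit ?_ hc.two_dvd_card (fun N hN hodd => ?_) (fun N hN hN2 => ?_)
  · rw [hm]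
    refine not_three_dvd_suzuki ?_
    rw [pow_succ, pow_mul, Nat.mul_mod, Nat.pow_mod]
    norm_num
  · exact le_bot_iff.1 (hO ▸ CfsgLib.PCore.le_pPrimeCore hN (Nat.coprime_two_right.2 hodd))
  · exact le_bot_iff.1 (h2 ▸ CfsgLib.PCore.le_pCore hN hN2)

/-- A simple non-abelian `PSL₂(F)` has `|F| > 3`. -/
theorem Hyp.three_lt (hc : Hyp G) {F : Type} [Field F] [Fintype F]
    (e : G ≃* Matrix.ProjectiveSpecialLinearGroup (Fin 2) F) : 3 < Fintype.card F := by
  haveI := hc.simple
  classical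
  by_contra h
  have h1 := CfsgLib.PSL2.card_psl (F := F)
  rw [← Nat.card_congr e.toEquiv] at h1
  have hne : ¬ Group.IsSolvable G := CfsgLib.CIT.not_isSolvable_of_simple hc.exists_ne_comm
  have h2 : 1 < Fintype.card F := Fintype.one_lt_card
  obtain e2 | e3 : Fintype.card F = 2 ∨ Fintype.card F = 3 := by omega
  · rw [e2] at h1
    norm_num at h1
    exact hne (Cfsg.Agent.S0144.result 2 3 1 1 Nat.prime_two Nat.prime_three (by rw [h1]; norm_num))
  · rw [e3] at h1
    norm_num at h1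
    exact hne (Cfsg.Agent.S0144.result 2 3 2 1 Nat.prime_two Nat.prime_three (by omega))

/-- The classification, given that of the groups with dihedral Sylow 2-subgroups. -/
theorem Hyp.classification (hGW : DihedralClassification.{u}) (hc : Hyp G) :
    (∃ (F : Type) (_ : Field F) (_ : Fintype F), 3 < Fintype.card F ∧
        Nonempty (G ≃* Matrix.ProjectiveSpecialLinearGroup (Fin 2) F)) ∨
      Cfsg.Lie.IsoSuzuki G ∨ Nonempty (G ≃* ↥(alternatingGroup (Fin 7))) ∨
      (∃ (F : Type) (_ : Field F) (_ : Fintype F), Fintype.card F = 4 ∧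
        Nonempty (G ≃* Matrix.ProjectiveSpecialLinearGroup (Fin 3) F)) := by
  haveI := hc.simple
  haveI : Fact (Nat.Prime 2) := ⟨Nat.prime_two⟩
  by_cases h2 : Cfsg.PRankLE 2 2 G
  · obtain ⟨S⟩ := (inferInstance : Nonempty (Sylow 2 G))
    letI := Fintype.ofFinite (GaloisField 2 4)
    have hF : Fintype.card (GaloisField 2 4) = 16 := by
      rw [← Nat.card_eq_fintype_card, GaloisField.card 2 4 (by norm_num)]; norm_num
    obtain ⟨P⟩ := (inferInstance : Nonempty (Sylow 2 (Cfsg.PSU 3 (GaloisField 2 4) 4)))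
    rcases CfsgLib.RankTwoTypes.sylow_types_of_even hc.nonab hc.two_dvd_card h2 S hF P with
      ⟨n, hn, he⟩ | hS | hS | hU
    · haveI : Group.IsPerfect G := ⟨((inferInstance : (commutator G).Normal).eq_bot_or_eq_top).resolve_left
        fun h => hc.nonab ⟨⟨fun a b => ?_⟩⟩⟩
      · obtain ⟨t, ht⟩ := exists_prime_orderOf_dvd_card' 2 hc.two_dvd_card
        let g : G ⧸ Cfsg.oddCore G ≃* G :=
          (QuotientGroup.quotientMulEquivOfEq (CfsgLib.CoreKill.oddCore_eq_bot_of_simple ht)).trans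
            QuotientGroup.quotientBot
        rcases hGW G S n hn he with ⟨F, iF, fF, -, h3, ⟨f⟩⟩ | hA
        · exact Or.inl ⟨F, iF, fF, h3, ⟨g.symm.trans f⟩⟩
        · exact Or.inr (Or.inr (Or.inl (hA.map fun f => g.symm.trans f)))
      · exact (commutatorElement_eq_one_iff_mul_comm.1 ((Subgroup.mem_bot).1
          (h ▸ commutator_mem_commutator (mem_top a) (mem_top b))))
    · exact (hc.no_qd_wreathed S (Or.inl hS)).elim
    · exact (hc.no_qd_wreathed S (Or.inr hS)).elim
    · exact hU.elim fun e => (hc.no_unitary S hF P e).elim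
  · rcases Cfsg.Agent.S0348.result hc.exists_ne_comm (hc.cit h2) with
      ⟨F, iF, fF, -, ⟨e⟩⟩ | hP | hs
    · exact Or.inl ⟨F, iF, fF, hc.three_lt e, ⟨e⟩⟩
    · exact Or.inr (Or.inr (Or.inr hP))
    · exact Or.inr (Or.inl (hc.isoSuzuki (hc.cit h2) hs))

end CfsgLib.TwoNil
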