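import Cfsg.Agent.Lib.TwoNil.Basic
import Cfsg.Agent.Lib.PiHom.UnitaryChars

/-!
# No simple group with Sylow 2-subgroup of type `PSU₃(4)` has 2-nilpotent involution centralisers
-/

set_option autoImplicit false
set_option linter.style.haveILetI false

namespace CfsgLib.TwoNil

open Cfsg CfsgLib.PiHom CfsgLib.Characters CfsgLib.LinearTwist
open CfsgLib.InvCharSixtyFour (HermLike)
open scoped ComplexConjugate

universe u

variable {G : Type u} [Group G]

namespace Hyp

variable [Finite G] (hc : Hyp G) (S : Sylow 2 G) (h : HermLike ↥(S : Subgroup G) 4)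
include hc h

theorem exists_cycle_data :
    ∃ (x : ↥(Subgroup.normalizer ((S : Subgroup G) : Set G))) (z : G)
      (w : Fin 5 → ↥(S : Subgroup G) ⧸ Subgroup.center ↥(S : Subgroup G)), Cycle S x z w := by
  haveI : Fact (Nat.Prime 2) := ⟨Nat.prime_two⟩
  classical
  letI := Fintype.ofFinite (↥(S : Subgroup G) ⧸ Subgroup.center ↥(S : Subgroup G))
  obtain ⟨x₀, hx₀, hcyc₀⟩ := hc.exists_cycle S h
  obtain ⟨z, -, hz, -, hz1, -, -⟩ := hc.exists_zInv_pair S h
  obtain ⟨e, m, hm, hem⟩ :=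
    Nat.exists_eq_pow_mul_and_not_dvd (orderOf_pos x₀).ne' 2 (by norm_num)
  set x := x₀ ^ 2 ^ e with hxdef
  have hxN : x ∈ Subgroup.normalizer ((S : Subgroup G) : Set G) := pow_mem hx₀ _
  have hxodd : Odd (orderOf x) := by
    have h1 : orderOf x ∣ m := orderOf_dvd_of_pow_eq_one (by
      rw [hxdef, ← pow_mul, ← hem, pow_orderOf_eq_one])
    exact (Nat.odd_iff.2 (Nat.two_dvd_ne_zero.1 hm)).of_dvd_nat h1
  have hfix2 : ∀ a ∈ zInv (S : Subgroup G), a ≠ 1 → x * a * x⁻¹ ≠ a := by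
    intro a ha ha1 hfix
    have h1 : x₀ ^ 2 ^ e ∈ fixer (S : Subgroup G) := hc.mem_fixer_of_fix S h hxN ha ha1 hfix
    have h3 := hc.cube_mem_fixer S h hx₀
    have hcop : Nat.Coprime (2 ^ e) 3 := Nat.Coprime.pow_left e (by norm_num)
    obtain ⟨k, -, hk⟩ := Nat.exists_mul_mod_eq_one_of_coprime hcop (by norm_num)
    have h4 : x₀ ∈ fixer (S : Subgroup G) := by
      have h5 : x₀ ^ (2 ^ e * k) ∈ fixer (S : Subgroup G) := by
        rw [pow_mul]; exact pow_mem h1 k
      rw [← Nat.div_add_mod (2 ^ e * k) 3, hk, pow_add, pow_mul, pow_one] at h5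
      have h6 := mul_mem (inv_mem (pow_mem h3 (2 ^ e * k / 3))) h5
      rwa [inv_mul_cancel_left] at h6
    exact hcyc₀ a ha ha1 (fixer_fix S h4 ha)
  have hx3 : ∀ s ∈ (S : Subgroup G), x * (x * (x * s * x⁻¹) * x⁻¹) * x⁻¹ = s := by
    intro s hs
    have h1 := hc.odd_commute S h (hc.cube_mem_fixer S h hxN)
      (hxodd.of_dvd_nat (orderOf_pow_dvd 3)) hs
    calc x * (x * (x * s * x⁻¹) * x⁻¹) * x⁻¹ = x ^ 3 * s * (x ^ 3)⁻¹ := by
          rw [pow_succ, pow_two]; group
      _ = s := conj_fix_iff.2 h1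
  set σ := psi (S : Subgroup G) ⟨x, hxN⟩ with hσ
  have h3V : ∀ v, σ (σ (σ v)) = v := fun v => by
    induction v using QuotientGroup.induction_on with
    | _ t =>
      rw [hσ, psi, MonoidHom.comp_apply, toV_mk, toV_mk, toV_mk]
      congr 1
      apply Subtype.ext
      simp only [normalizerMonoidHom_coe]
      exact hx3 t t.2
  have hcolσ : ∀ v, ((sqCol (σ v) : ↥(S : Subgroup G)) : G) =
      x * ((sqCol v : ↥(S : Subgroup G)) : G) * x⁻¹ := fun v => by
    rw [hσ, psi, MonoidHom.comp_apply, sqCol_toV h]; rfl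
  have hcolA : ∀ v, ((sqCol v : ↥(S : Subgroup G)) : G) ∈ zInv (S : Subgroup G) := fun v =>
    (Crit.mem_center_iff S h _).1 (by rw [sqCol]; exact h.sq_mem _)
  have hcol1 : ∀ v, v ≠ 1 → ((sqCol v : ↥(S : Subgroup G)) : G) ≠ 1 := fun v hv h1 =>
    hv ((sqCol_eq_one h).1 (Subtype.ext h1))
  have hfpf : ∀ v, σ v = v → v = 1 := fun v hv => by
    by_contra hv1
    refine hfix2 _ (hcolA v) (hcol1 v hv1) ?_
    rw [← hcolσ, hv]
  obtain ⟨c1, c2⟩ := hc.cycle_apply S h hxN hfix2 hz hz1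
  have hV := isColouring h ((S : Subgroup G).normalizerMonoidHom ⟨x, hxN⟩) (z := ⟨z, hz.1⟩)
    ((Crit.mem_center_iff S h _).2 hz) (fun e => hz1 (congrArg Subtype.val e))
    (fun e => hfix2 z hz hz1 (congrArg Subtype.val e)) (fun e => by
      have e' := congrArg Subtype.val e
      simp only [normalizerMonoidHom_coe] at e'
      rw [c1] at e'
      exact hz1 (conj_eq_one_iff.1 (mul_eq_left.1 e')))
  have h5 := hV.fibre 0
  rw [Matrix.cons_val_zero, Nat.card_eq_fintype_card] at h5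
  let w : Fin 5 → ↥(S : Subgroup G) ⧸ Subgroup.center ↥(S : Subgroup G) :=
    fun i => ((Fintype.equivFinOfCardEq h5).symm i).1
  have hwcol : ∀ i, ((sqCol (w i) : ↥(S : Subgroup G)) : G) = z := fun i =>
    congrArg Subtype.val ((Fintype.equivFinOfCardEq h5).symm i).2
  have hw1 : ∀ i, w i ≠ 1 := fun i hi => hz1 (by
    rw [← hwcol i, hi, (sqCol_eq_one h).2 rfl]; rfl)
  have hxz : x * z * x⁻¹ ≠ z := hfix2 z hz hz1
  have hxxz : x * (x * z * x⁻¹) * x⁻¹ ≠ z := fun e => by
    rw [c1] at e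
    exact hz1 (conj_eq_one_iff.1 (mul_eq_left.1 e))
  refine ⟨⟨x, hxN⟩, z, w, hz, hz1, hfix2, hx3, hwcol,
    ⟨card_quot h, mul_self_eq_one h, quot_comm h, h3V,
      hfpf, hw1, fun v hv => ?_, fun i j hij => ?_⟩⟩
  · obtain ⟨k, hk⟩ := hV.cover v hv
    have hmk : ∀ v', ((sqCol v' : ↥(S : Subgroup G)) : G) = z → ∃ i, v' = w i := fun v' hv' =>
      ⟨Fintype.equivFinOfCardEq h5 ⟨v', Subtype.ext hv'⟩, by simp [w]⟩
    fin_cases k
    · obtain ⟨i, hi⟩ := hmk v (congrArg Subtype.val hk)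
      exact ⟨i, Or.inl hi⟩
    · -- colour `x z x⁻¹`: two more steps return to `z`
      have hk' : ((sqCol v : ↥(S : Subgroup G)) : G) = x * z * x⁻¹ := congrArg Subtype.val hk
      obtain ⟨i, hi⟩ := hmk (σ (σ v)) (by rw [hcolσ, hcolσ, hk', c1, c2])
      exact ⟨i, Or.inr (Or.inl (by rw [← hi, h3V]))⟩
    · have hk' : ((sqCol v : ↥(S : Subgroup G)) : G) = x * (x * z * x⁻¹) * x⁻¹ :=
        congrArg Subtype.val hk
      obtain ⟨i, hi⟩ := hmk (σ v) (by rw [hcolσ, hk', c1, c2])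
      exact ⟨i, Or.inr (Or.inr (by rw [← hi, h3V]))⟩
  · rcases hij with e | e | e
    · exact (Fintype.equivFinOfCardEq h5).symm.injective (Subtype.ext e)
    · exact absurd ((hwcol i).symm.trans (by rw [e, hcolσ, hwcol])) hxz.symm
    · exact absurd ((hwcol i).symm.trans (by rw [e, hcolσ, hcolσ, hwcol])) hxxz.symm

open scoped Classical in
/-- Centralisers of elements of `S` have normal 2-complements. -/
theorem exists_complement_self {s : G} (hs : s ∈ (S : Subgroup G)) (hs1 : s ≠ 1) :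
    ∃ O : Subgroup G, O ≤ Subgroup.centralizer ({s} : Set G) ∧
      Subgroup.centralizer ({s} : Set G) ≤ Subgroup.normalizer (O : Set G) ∧ Odd (Nat.card ↥O) ∧
      O.relIndex (Subgroup.centralizer ({s} : Set G)) =
        if s ∈ zInv (S : Subgroup G) then 64 else 16 := by
  haveI : Fact (Nat.Prime 2) := ⟨Nat.prime_two⟩
  by_cases hsA : s ∈ zInv (S : Subgroup G)
  · obtain ⟨O, hO1, hO2, hO3, hO4⟩ := hc.exists_complement S hsA hs1
    refine ⟨O, hO1, hO2, hO3, ?_⟩
    rw [if_pos hsA, relIndex_eq_card S.isPGroup' hO3 (le_centralizer_of_mem_zInv hsA) hO4,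
      Crit.card_sylow S h]
  set z := s * s with hz
  have hzA : z ∈ zInv (S : Subgroup G) :=
    (Crit.mem_center_iff S h _).1 (h.sq_mem (⟨s, hs⟩ : ↥(S : Subgroup G)))
  have hz1 : z ≠ 1 := fun h0 => hsA ((Crit.mem_center_iff S h _).1
    (h.sq_one (⟨s, hs⟩ : ↥(S : Subgroup G)) (Subtype.ext h0)))
  obtain ⟨O, hO1, hO2, hO3, hO4⟩ := hc.exists_complement S hzA hz1
  set Cs := Subgroup.centralizer ({s} : Set G) with hCs
  have hsz : Cs ≤ Subgroup.centralizer ({z} : Set G) := fun g hg => by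
    rw [Subgroup.mem_centralizer_singleton_iff] at hg ⊢
    rw [hz, ← mul_assoc, hg, mul_assoc, hg, ← mul_assoc]
  have hsC : s ∈ Subgroup.centralizer ({z} : Set G) :=
    hsz (Subgroup.mem_centralizer_singleton_iff.2 rfl)
  set T := (S : Subgroup G) ⊓ Cs with hT
  have hT2 : IsPGroup 2 ↥T := S.isPGroup'.to_le inf_le_left
  have hodd : Odd (Nat.card ↥(O ⊓ Cs : Subgroup G)) :=
    hO3.of_dvd_nat (Subgroup.card_dvd_of_le inf_le_left)
  refine ⟨O ⊓ Cs, inf_le_right, fun g hg => ?_, hodd, ?_⟩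
  · refine mem_normalizer_of_conjBy_le (conjBy_le.2 fun o ho => ⟨?_, ?_⟩)
    · exact (Subgroup.mem_normalizer_iff.1 (hO2 (hsz hg)) o).1 ho.1
    · exact Cs.mul_mem (Cs.mul_mem hg ho.2) (Cs.inv_mem hg)
  have hdec : ∀ g ∈ Cs, ∃ t ∈ T, ∃ o ∈ O ⊓ Cs, g = t * o := by
    intro g hg
    obtain ⟨t, ht, o, ho, rfl⟩ := hO4 g (hsz hg)
    have hcom := Subgroup.mem_centralizer_singleton_iff.1 hg
    have h1 : t⁻¹ * s⁻¹ * t * s ∈ O := by
      rw [show t⁻¹ * s⁻¹ * t * s = (t⁻¹ * s⁻¹ * t * s * (s⁻¹ * o * s⁻¹⁻¹)) * (s⁻¹ * o * s⁻¹⁻¹)⁻¹ by group]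
      refine mul_mem ?_ (inv_mem ((Subgroup.mem_normalizer_iff.1 (inv_mem (hO2 hsC)) o).1 ho))
      rw [show t⁻¹ * s⁻¹ * t * s * (s⁻¹ * o * s⁻¹⁻¹) = t⁻¹ * s⁻¹ * (t * o * s) by group, hcom,
        show t⁻¹ * s⁻¹ * (s * (t * o)) = o by group]
      exact ho
    have h2 : t⁻¹ * s⁻¹ * t * s = 1 := by
      rw [← Subgroup.mem_bot, ← inf_eq_bot_of_odd S.isPGroup' hO3]
      exact ⟨h1, (S : Subgroup G).mul_mem ((S : Subgroup G).mul_mem ((S : Subgroup G).mul_mem
        ((S : Subgroup G).inv_mem ht) ((S : Subgroup G).inv_mem hs)) ht) hs⟩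
    have htC : t ∈ Cs := Subgroup.mem_centralizer_singleton_iff.2 (by
      calc t * s = s * t * (t⁻¹ * s⁻¹ * t * s) := by group
        _ = s * t := by rw [h2, mul_one])
    refine ⟨t, ⟨ht, htC⟩, o, ⟨ho, ?_⟩, rfl⟩
    have h3 := mul_mem (inv_mem htC) hg
    rwa [inv_mul_cancel_left] at h3
  rw [if_neg hsA, relIndex_eq_card hT2 hodd inf_le_right hdec]
  rw [← Crit.card_centralizer_in S h (s := ⟨s, hs⟩) (fun h0 => hsA ((Crit.mem_center_iff S h _).1 h0))]
  exact Nat.card_congr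
    { toFun := fun t => ⟨⟨t.1, t.2.1⟩, Subgroup.mem_centralizer_singleton_iff.2
        (Subtype.ext (Subgroup.mem_centralizer_singleton_iff.1 t.2.2))⟩
      invFun := fun t => ⟨t.1.1, t.1.2, Subgroup.mem_centralizer_singleton_iff.2
        (congrArg Subtype.val (Subgroup.mem_centralizer_singleton_iff.1 t.2))⟩
      left_inv := fun _ => rfl
      right_inv := fun _ => rfl }

/-- No product of two involutions has a 2-part of order four. -/
theorem pairs_empty [Fintype G] {z : G} (hz : z ∈ zInv (S : Subgroup G))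
    {t : ↥(S : Subgroup G)} (ht : t ∉ Subgroup.center ↥(S : Subgroup G)) :
    ClassCount.pairs z z (sect (t : G)) = ∅ := by
  haveI : Fact (Nat.Prime 2) := ⟨Nat.prime_two⟩
  rw [Finset.eq_empty_iff_forall_notMem]
  rintro ⟨a, b⟩ hp
  simp only [ClassCount.pairs, Finset.mem_filter, Finset.mem_product, ClassCount.mem_cls] at hp
  obtain ⟨⟨ha, hb⟩, hab⟩ := hp
  obtain ⟨p, hp, hpt⟩ := mem_sect.1 hab
  obtain ⟨d, hd⟩ := isConj_iff.1 hpt
  have hsq : ∀ y, IsConj z y → y * y = 1 := fun y hy => by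
    obtain ⟨e, rfl⟩ := isConj_iff.1 hy
    rw [show e * z * e⁻¹ * (e * z * e⁻¹) = e * (z * z) * e⁻¹ by group, hz.2.1]; group
  have hai := inv_eq_of_mul_eq_one_right (hsq a ha)
  have hbi := inv_eq_of_mul_eq_one_right (hsq b hb)
  have hinv : a * p * a⁻¹ = p⁻¹ := by
    refine Blocks.IsPPart.unique Nat.prime_two (Blocks.IsPPart.conj hp a) ?_
    rw [show a * (a * b) * a⁻¹ = (a * b)⁻¹ by
      rw [mul_inv_rev, hai, hbi, ← mul_assoc, hsq a ha, one_mul]]
    exact isPPart_inv hp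
  set u := d⁻¹ * a * d with hu
  have hu1 : u * u = 1 := by
    rw [hu, show d⁻¹ * a * d * (d⁻¹ * a * d) = d⁻¹ * (a * a) * d by group, hsq a ha]; group
  have hut : u * (t : G) * u⁻¹ = (t : G)⁻¹ := by
    calc u * (t : G) * u⁻¹ = d⁻¹ * (a * (d * (t : G) * d⁻¹) * a⁻¹) * d := by rw [hu]; group
      _ = d⁻¹ * p⁻¹ * d := by rw [hd, hinv]
      _ = (t : G)⁻¹ := by rw [← hd]; group
  set T := Subgroup.zpowers u ⊔ Subgroup.zpowers (t : G) with hT
  have hT2 : IsPGroup 2 ↥T := by
    refine IsPGroup.to_sup_of_normal_right' ?_ ?_ ?_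
    · exact fun y => ⟨1, by
        obtain ⟨i, hi⟩ := Subgroup.mem_zpowers_iff.1 y.2
        refine Subtype.ext ?_
        rw [pow_one, Subgroup.coe_pow, Subgroup.coe_one, ← hi, pow_two,
          ← (Commute.refl u).mul_zpow, hu1, one_zpow]⟩
    · exact IsPGroup.of_card (n := 2) (by rw [Nat.card_zpowers, Crit.sq_of_not_center S h ht])
    · rw [Subgroup.zpowers_le, ← conjBy_eq_iff, conjBy, MonoidHom.map_zpowers]
      simp only [MulEquiv.coe_toMonoidHom, MulAut.conj_apply, hut, Subgroup.zpowers_inv]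
  obtain ⟨g, hg⟩ := exists_le_conjBy hT2 S
  have hg' := conjBy_inv_le hg
  have huS := conjBy_le.1 hg' u (le_sup_left (b := Subgroup.zpowers (t : G)) (Subgroup.mem_zpowers u))
  have htS := conjBy_le.1 hg' (t : G) (le_sup_right (a := Subgroup.zpowers u) (Subgroup.mem_zpowers _))
  have hcen := hc.mem_zInv_of_sq S h huS (by
    rw [show g⁻¹ * u * g⁻¹⁻¹ * (g⁻¹ * u * g⁻¹⁻¹) = g⁻¹ * (u * u) * g⁻¹⁻¹ by group, hu1]; group)
  have hcom := hcen.2.2 _ htS
  have hcom' : (t : G) * u = u * (t : G) := by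
    have h1 := congrArg (fun y => g * y * g⁻¹) hcom
    simpa [mul_assoc] using h1
  rw [← hcom', mul_inv_cancel_right] at hut
  have h4 := Crit.sq_of_not_center S h ht
  have h2 : orderOf (t : G) ∣ 2 := orderOf_dvd_of_pow_eq_one (by
    rw [pow_two]; nth_rw 1 [hut]; exact inv_mul_cancel _)
  rw [h4] at h2
  norm_num at h2

section Classes

variable {x : ↥(Subgroup.normalizer ((S : Subgroup G) : Set G))} {z : G}
  {w : Fin 5 → ↥(S : Subgroup G) ⧸ Subgroup.center ↥(S : Subgroup G)} (hy : Cycle S x z w)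
include hy

theorem isConj_invol {a : G} (ha : a ∈ zInv (S : Subgroup G)) (ha1 : a ≠ 1) : IsConj z a := by
  obtain ⟨c1, c2⟩ := hc.cycle_apply S h x.2 hy.cyc hy.hz hy.hz1
  rcases zInv_cases (hc.card_zInv S h) hy.hz hy.hz1 (conj_mem_zInv x.2 hy.hz)
      (fun e => hy.hz1 (conj_eq_one_iff.1 e)) (fun e => hy.cyc z hy.hz hy.hz1 e.symm) ha with
    rfl | rfl | rfl | rfl
  · exact absurd rfl ha1
  · exact IsConj.refl _
  · exact isConj_iff.2 ⟨x, rfl⟩
  · exact isConj_iff.2 ⟨x * x, by rw [← c1]; group⟩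

theorem orbit_of_isConj {s t : ↥(S : Subgroup G)} (hs : s ≠ 1) (hst : IsConj (s : G) (t : G)) :
    (t : _ ⧸ Subgroup.center ↥(S : Subgroup G)) = s ∨
      (t : _ ⧸ Subgroup.center ↥(S : Subgroup G)) = psi (S : Subgroup G) x (s : _ ⧸ _) ∨
      (t : _ ⧸ Subgroup.center ↥(S : Subgroup G)) =
        psi (S : Subgroup G) x (psi (S : Subgroup G) x (s : _ ⧸ _)) := by
  obtain ⟨g, hg⟩ := isConj_iff.1 hst
  obtain ⟨n, hn, hns⟩ := hc.fusion S h (s := (s : G)) (g := g) s.2 (by rw [hg]; exact t.2)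
    (fun e => hs (Subtype.ext e))
  have hts : t = (S : Subgroup G).normalizerMonoidHom ⟨n, hn⟩ s := by
    apply Subtype.ext
    rw [PiHom.normalizerMonoidHom_coe, ← hg]
    exact hns.symm
  have hmk : (t : _ ⧸ Subgroup.center ↥(S : Subgroup G)) =
      psi (S : Subgroup G) ⟨n, hn⟩ (s : _ ⧸ _) := by
    rw [hts, psi, MonoidHom.comp_apply, toV_mk]
  obtain ⟨i, hi⟩ := hc.exists_coset S h x.2 hy.cyc hn
  have h1 : psi (S : Subgroup G) ((x ^ (i : ℕ))⁻¹ * ⟨n, hn⟩) = 1 := by
    exact hc.psi_fixer S h (by simpa using hi)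
  rw [map_mul, map_inv, inv_mul_eq_one, map_pow] at h1
  rw [hmk, ← h1]
  fin_cases i
  · exact Or.inl (by simp)
  · exact Or.inr (Or.inl (by simp))
  · exact Or.inr (Or.inr (by simp [pow_two]))

end Classes

open scoped Classical in
/-- The unitary type does not occur. -/
theorem no_hermLike : False := by
  haveI : Fact (Nat.Prime 2) := ⟨Nat.prime_two⟩
  haveI := hc.simple
  letI := Fintype.ofFinite G
  letI := Fintype.ofFinite ↥(S : Subgroup G)
  letI := Fintype.ofFinite (↥(S : Subgroup G) ⧸ Subgroup.center ↥(S : Subgroup G))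
  obtain ⟨x, z, w, hy⟩ := hc.exists_cycle_data S h
  obtain ⟨M, hM⟩ := BlockCover.exists_isPModular (p := 2) Nat.prime_two
  -- representatives
  let t : Fin 5 → ↥(S : Subgroup G) := fun i => Quotient.out (w i)
  have htw : ∀ i, (t i : _ ⧸ (Subgroup.center ↥(S : Subgroup G))) = w i := fun i => QuotientGroup.out_eq' _
  have htZ : ∀ i, t i ∉ (Subgroup.center ↥(S : Subgroup G)) := fun i hi => hy.orbits.ne_one i (by
    rw [← htw]; exact (QuotientGroup.eq_one_iff _).2 hi)
  -- values are integers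
  have hzord : orderOf z = 2 ^ 1 := by rw [pow_one]; exact orderOf_of_mem_zInv hy.hz hy.hz1
  have hint : ∀ (χ : IrrCharacter G) (i : Fin 5), ∃ c : ℤ, (χ : G → ℂ) (t i : G) = c := by
    intro χ i
    obtain ⟨q, hq⟩ := CharGalois.exists_rat_char (irr_isCharacter χ) (t i : G) fun m hm => by
      have hodd : Odd m := Nat.coprime_two_right.1 (hm.coprime_dvd_right (Hyp.two_dvd S h))
      obtain ⟨k, rfl⟩ := hodd
      refine (classFunction_eq_of_isConj (irr_isClassFunction χ) ?_).symm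
      rw [show (t i : G) ^ (2 * k + 1) = ((t i * (t i * t i) ^ k : ↥(S : Subgroup G)) : G) by
        rw [Subgroup.coe_mul, Subgroup.coe_pow, Subgroup.coe_mul, ← pow_two, ← pow_mul, ← pow_succ']]
      exact Crit.isConj_mul_center S h (htZ i) (pow_mem (h.sq_mem (t i)) k)
    obtain ⟨c, hc'⟩ := exists_int_of_isIntegral_rat (hq ▸ isIntegral_of_isCharacter (irr_isCharacter χ) _)
    exact ⟨c, by rw [hq, ← hc', Rat.cast_intCast]⟩
  choose c hcval using hint
  have hvint : ∀ χ : IrrCharacter G, ∃ v : ℤ, (χ : G → ℂ) z = v := fun χ => by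
    obtain ⟨v, hv, -⟩ := Sporadic.CharTools.exists_int_of_sq_eq_one (irr_isCharacter χ)
      (apply_one_eq_charDegree (irr_isCharacter χ)) (t := z) (by rw [pow_two]; exact hy.hz.2.1)
    exact ⟨v, hv⟩
  choose v hvval using hvint
  let d : IrrCharacter G → ℤ := fun χ => (charDegree (χ : G → ℂ) : ℤ)
  have hdval : ∀ χ : IrrCharacter G, (χ : G → ℂ) 1 = d χ := fun χ => by
    rw [apply_one_eq_charDegree (irr_isCharacter χ)]; simp [d]
  have hdpos : ∀ χ, 0 < d χ := fun χ => by
    have := PrincipalSq.charDegree_pos χ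
    simp only [d]; omega
  -- the values of a character on `S`
  have hA : ∀ (χ : IrrCharacter G) (s : ↥(S : Subgroup G)), s ∈ (Subgroup.center ↥(S : Subgroup G)) → s ≠ 1 →
      (χ : G → ℂ) (s : G) = v χ := fun χ s hs hs1 => by
    rw [← hvval]
    exact (classFunction_eq_of_isConj (irr_isClassFunction χ) (hc.isConj_invol S h hy
      ((Crit.mem_center_iff S h s).1 hs) fun e => hs1 (Subtype.ext e))).symm
  have horb : ∀ (χ : IrrCharacter G) (s : ↥(S : Subgroup G)) (i : Fin 5),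
      ((s : _ ⧸ (Subgroup.center ↥(S : Subgroup G))) = w i ∨ (s : _ ⧸ (Subgroup.center ↥(S : Subgroup G))) = psi (S : Subgroup G) x (w i) ∨
        (s : _ ⧸ (Subgroup.center ↥(S : Subgroup G))) = psi (S : Subgroup G) x (psi (S : Subgroup G) x (w i))) →
      (χ : G → ℂ) (s : G) = c χ i := fun χ s i hs => by
    rw [← hcval]
    refine (classFunction_eq_of_isConj (irr_isClassFunction χ) (Crit.isConj_shift S h (x := x) (htZ i) ?_)).symm
    rw [htw]; exact hs
  -- the sums over the cosets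
  let F : IrrCharacter G → (↥(S : Subgroup G) ⧸ (Subgroup.center ↥(S : Subgroup G))) → ℤ := fun χ u =>
    if hu : u = 1 then d χ + 3 * v χ else 4 * c χ (hy.orbits.index u hu)
  have hFinv : ∀ χ u, F χ (psi (S : Subgroup G) x u) = F χ u := fun χ u => by
    by_cases hu : u = 1
    · subst hu; rw [map_one]
    · have hu' := hy.orbits.sigma_ne_one hu
      simp only [F, dif_neg hu, dif_neg hu']
      congr 2
      refine hy.orbits.orbit_eq (hy.orbits.index_spec hu') ?_
      rcases hy.orbits.index_spec hu with e | e | e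
      · exact Or.inr (Or.inl (congrArg _ e))
      · exact Or.inr (Or.inr (congrArg _ e))
      · exact Or.inl ((congrArg _ e).trans (hy.orbits.three _))
  have hFw : ∀ χ i, F χ (w i) = 4 * c χ i := fun χ i => by
    simp only [F, dif_neg (hy.orbits.ne_one i)]
    congr 2
    exact hy.orbits.orbit_eq (hy.orbits.index_spec (hy.orbits.ne_one i)) (Or.inl rfl)
  have hfib : ∀ (χ : IrrCharacter G) (u : ↥(S : Subgroup G) ⧸ (Subgroup.center ↥(S : Subgroup G))),
      ∑ s ∈ Finset.univ.filter (fun s : ↥(S : Subgroup G) => (s : _ ⧸ (Subgroup.center ↥(S : Subgroup G))) = u),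
        (χ : G → ℂ) (s : G) = F χ u := by
    intro χ u
    have hcard : (Finset.univ.filter (fun s : ↥(S : Subgroup G) => (s : _ ⧸ (Subgroup.center ↥(S : Subgroup G))) = u)).card = 4 := by
      induction u using QuotientGroup.induction_on with
      | _ s₀ =>
        rw [← h.card_center, Nat.card_eq_fintype_card, Fintype.card_subtype]
        refine Finset.card_bij (fun s _ => s₀⁻¹ * s) (fun s hs => ?_) (fun a _ b _ e => mul_left_cancel e)
          (fun a ha => ⟨s₀ * a, Finset.mem_filter.2 ⟨Finset.mem_univ _, ?_⟩, inv_mul_cancel_left _ _⟩)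
        · exact Finset.mem_filter.2 ⟨Finset.mem_univ _, QuotientGroup.eq.1 (Finset.mem_filter.1 hs).2.symm⟩
        · exact (QuotientGroup.eq.2 (by rw [inv_mul_cancel_left]; exact (Finset.mem_filter.1 ha).2)).symm
    by_cases hu : u = 1
    · have h1 : (1 : ↥(S : Subgroup G)) ∈
          Finset.univ.filter (fun s : ↥(S : Subgroup G) => (s : _ ⧸ (Subgroup.center ↥(S : Subgroup G))) = u) :=
        Finset.mem_filter.2 ⟨Finset.mem_univ _, hu ▸ rfl⟩
      rw [← Finset.add_sum_erase _ _ h1, Finset.sum_congr rfl (g := fun _ => (v χ : ℂ)) (fun s hs => by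
        obtain ⟨hs1, hs2⟩ := Finset.mem_erase.1 hs
        exact hA χ s ((QuotientGroup.eq_one_iff s).1 ((Finset.mem_filter.1 hs2).2.trans hu)) hs1),
        Finset.sum_const, Finset.card_erase_of_mem h1, hcard, Subgroup.coe_one, hdval]
      simp [F, hu]
    · rw [Finset.sum_congr rfl (g := fun _ => (c χ (hy.orbits.index u hu) : ℂ)) (fun s hs => by
        refine horb χ s _ ?_
        rw [(Finset.mem_filter.1 hs).2]
        exact hy.orbits.index_spec hu), Finset.sum_const, hcard]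
      simp [F, hu]
  have hsub : ∀ (χ : IrrCharacter G) (N : Subgroup (↥(S : Subgroup G) ⧸ (Subgroup.center ↥(S : Subgroup G)))),
      ((4 * Nat.card ↥N : ℕ) : ℤ) ∣ ∑ u ∈ Finset.univ.filter (· ∈ N), F χ u := by
    intro χ N
    set H := N.comap (QuotientGroup.mk' (Subgroup.center ↥(S : Subgroup G))) with hH
    letI := Fintype.ofFinite ↥H
    obtain ⟨m, hm⟩ := Sporadic.CharTools.exists_nat_sum (irr_isCharacter χ) ((S : Subgroup G).subtype.comp H.subtype)
    have hcH : Nat.card ↥H = 4 * Nat.card ↥N := by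
      rw [hH, card_comap_mk' (Subgroup.center ↥(S : Subgroup G)) N, h.card_center]
    refine ⟨m, ?_⟩
    have e : ((∑ u ∈ Finset.univ.filter (· ∈ N), F χ u : ℤ) : ℂ) =
        ((((4 * Nat.card ↥N : ℕ) : ℤ) * (m : ℤ) : ℤ) : ℂ) := by
      push_cast
      rw [← Finset.sum_congr rfl (fun u _ => hfib χ u),
        ← Finset.sum_biUnion (fun a _ b _ hab => Finset.disjoint_left.2 fun s h1 h2 =>
          hab ((Finset.mem_filter.1 h1).2.symm.trans (Finset.mem_filter.1 h2).2))]
      rw [hcH] at hm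
      push_cast at hm
      rw [← hm]
      refine (Finset.sum_bij (fun (s : ↥H) _ => (s : ↥(S : Subgroup G))) (fun s _ => ?_)
        (fun a _ b _ e => Subtype.ext e) (fun s hs => ?_) (fun s _ => rfl)).symm
      · exact Finset.mem_biUnion.2 ⟨_, Finset.mem_filter.2 ⟨Finset.mem_univ _, s.2⟩,
          Finset.mem_filter.2 ⟨Finset.mem_univ _, rfl⟩⟩
      · obtain ⟨u, hu, hs⟩ := Finset.mem_biUnion.1 hs
        exact ⟨⟨s, show (s : _ ⧸ (Subgroup.center ↥(S : Subgroup G))) ∈ N from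
          (Finset.mem_filter.1 hs).2 ▸ (Finset.mem_filter.1 hu).2⟩, Finset.mem_univ _, rfl⟩
    exact_mod_cast e
  -- the congruences
  have hcong : ∀ χ, (64 : ℤ) ∣ d χ + 3 * v χ + 12 * ∑ i, c χ i := fun χ => by
    have h1 := hsub χ ⊤
    rw [Subgroup.card_top, card_quot h] at h1
    simp only [Subgroup.mem_top, Finset.filter_true_of_mem, implies_true] at h1
    rw [hy.orbits.sum_univ (F χ) (hFinv χ)] at h1
    simp only [hFw] at h1
    rw [← Finset.mul_sum] at h1
    simp only [F, dif_pos] at h1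
    omega
  have hdiv : ∀ χ i, (4 : ℤ) ∣ (∑ j, c χ j) - c χ i := fun χ i => by
    obtain ⟨N, hN, hsum⟩ := hy.orbits.exists_hyperplane i
    have h1 := hsub χ N
    rw [hN, hsum (F χ) (hFinv χ)] at h1
    simp only [hFw] at h1
    rw [← Finset.mul_sum] at h1
    simp only [F, dif_pos] at h1
    have := hcong χ
    omega
  have h16 : ∀ χ, (16 : ℤ) ∣ d χ - v χ := by
    intro χ
    set ρ := (S : Subgroup G).normalizerMonoidHom x with hρ
    have hρ3 : ∀ s, ρ (ρ (ρ s)) = s := fun s => Subtype.ext (by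
      simp only [hρ, normalizerMonoidHom_coe]; exact hy.three s s.2)
    have hρfp : ∀ s, ρ s = s → s = 1 := fun s hs => by
      have h1 : ∀ a ∈ (Subgroup.center ↥(S : Subgroup G)), ρ a = a → a = 1 := fun a ha e => by
        by_contra ha1
        exact hy.cyc a ((Crit.mem_center_iff S h a).1 ha) (fun e' => ha1 (Subtype.ext e'))
          (congrArg Subtype.val e)
      exact h1 s (h.sq_one s (h1 _ (h.sq_mem s) (by rw [map_mul, hs]))) hs
    set T := t 0 with hTdef
    set U := ρ T with hUdef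
    have hTU : Commute T U := (InvCharSixtyFour.fpf_three ρ hρ3 hρfp T).2
    have hT4 : T ^ 4 = 1 := by
      rw [show (4 : ℕ) = 2 + 2 from rfl, pow_add, pow_two]; exact h.center_sq _ (h.sq_mem T)
    have hU4 : U ^ 4 = 1 := by rw [hUdef, ← map_pow, hT4, map_one]
    -- an abelian group `ℤ/4 × ℤ/4` mapping onto the plane
    let φ : Multiplicative (ZMod 4 × ZMod 4) →* ↥(S : Subgroup G) :=
      MonoidHom.mk' (fun p => T ^ (p.toAdd.1.val) * U ^ (p.toAdd.2.val)) fun p q => by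
        simp only [toAdd_mul, Prod.fst_add, Prod.snd_add, ZMod.val_add]
        rw [← pow_eq_pow_mod _ hT4, ← pow_eq_pow_mod _ hU4, pow_add, pow_add]
        have hc2 : U ^ p.toAdd.2.val * T ^ q.toAdd.1.val = T ^ q.toAdd.1.val * U ^ p.toAdd.2.val :=
          ((hTU.pow_pow _ _).eq).symm
        calc T ^ p.toAdd.1.val * T ^ q.toAdd.1.val * (U ^ p.toAdd.2.val * U ^ q.toAdd.2.val)
            = T ^ p.toAdd.1.val * (T ^ q.toAdd.1.val * U ^ p.toAdd.2.val) * U ^ q.toAdd.2.val := by group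
          _ = _ := by rw [← hc2]; group
    let ψ : Multiplicative (ZMod 4 × ZMod 4) →* ℂˣ := MonoidHom.mk'
      (fun p => (Units.mk0 Complex.I Complex.I_ne_zero) ^ (p.toAdd.2.val)) fun p q => by
        simp only [toAdd_mul, Prod.snd_add, ZMod.val_add]
        rw [← pow_add, ← pow_eq_pow_mod]
        refine Units.ext ?_
        simp [Complex.I_pow_four]
    letI := Fintype.ofFinite (Multiplicative (ZMod 4 × ZMod 4))
    obtain ⟨m, hm⟩ := classInner_char_nat
      (CharGalois.isCharacter_comp (irr_isCharacter χ) ((S : Subgroup G).subtype.comp φ))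
      (isCharacter_of_irr (isIrrCharacter_of_hom ψ))
    have hZT : ∀ a b : ℕ, ((T ^ a * U ^ b : ↥(S : Subgroup G)) : _ ⧸ (Subgroup.center ↥(S : Subgroup G))) =
        w 0 ^ a * (psi (S : Subgroup G) x (w 0)) ^ b := fun a b => by
      rw [QuotientGroup.mk_mul, QuotientGroup.mk_pow, QuotientGroup.mk_pow, ← htw 0, hUdef, hρ, psi,
        MonoidHom.comp_apply, toV_mk]
    have hw2 : ∀ n : ℕ, ∀ u : ↥(S : Subgroup G) ⧸ (Subgroup.center ↥(S : Subgroup G)), u ^ n = u ^ (n % 2) := fun n u =>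
      pow_eq_pow_mod n (by rw [pow_two]; exact hy.orbits.sq u)
    -- the values on the sixteen elements
    have hval : ∀ p : Multiplicative (ZMod 4 × ZMod 4),
        (χ : G → ℂ) ((φ p : ↥(S : Subgroup G)) : G) =
          if p.toAdd.1.val % 2 = 0 ∧ p.toAdd.2.val % 2 = 0 then
            (if p.toAdd.1.val = 0 ∧ p.toAdd.2.val = 0 then (d χ : ℂ) else (v χ : ℂ))
          else (c χ 0 : ℂ) := by
      intro p
      have hmk := hZT p.toAdd.1.val p.toAdd.2.val
      rw [hw2 p.toAdd.1.val, hw2 p.toAdd.2.val] at hmk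
      have ha2 := Nat.mod_two_eq_zero_or_one p.toAdd.1.val
      have hb2 := Nat.mod_two_eq_zero_or_one p.toAdd.2.val
      have la := ZMod.val_lt p.toAdd.1
      have lb := ZMod.val_lt p.toAdd.2
      show (χ : G → ℂ) ((T ^ p.toAdd.1.val * U ^ p.toAdd.2.val : ↥(S : Subgroup G)) : G) = _
      rcases ha2 with ha | ha <;> rcases hb2 with hb | hb
      · rw [if_pos ⟨ha, hb⟩]
        rw [ha, hb, pow_zero, pow_zero, one_mul] at hmk
        split_ifs with h0
        · rw [h0.1, h0.2, pow_zero, pow_zero, one_mul, Subgroup.coe_one, hdval]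
        · refine hA χ _ ((QuotientGroup.eq_one_iff _).1 hmk) fun e => h0 ?_
          have hzT : (T ^ 2 : ↥(S : Subgroup G)) ≠ 1 := fun e2 => htZ 0 (h.sq_one T (by rwa [← pow_two]))
          have hzU : (U ^ 2 : ↥(S : Subgroup G)) ≠ 1 := fun e2 => hzT (ρ.injective (by
            rw [map_pow, map_one]; exact e2))
          have hzne : (U ^ 2 : ↥(S : Subgroup G)) ≠ (T ^ 2)⁻¹ := fun e2 => hzT (hρfp _ (by
            rw [map_pow, ← hUdef, e2, inv_eq_of_mul_eq_one_right (show T ^ 2 * T ^ 2 = 1 by rw [← pow_add]; exact hT4)]))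
          have ca : p.toAdd.1.val = 0 ∨ p.toAdd.1.val = 2 := by omega
          have cb : p.toAdd.2.val = 0 ∨ p.toAdd.2.val = 2 := by omega
          rcases ca with ea | ea <;> rcases cb with eb | eb <;> rw [ea, eb] at e
          · exact ⟨ea, eb⟩
          · exact absurd (by simpa using e) hzU
          · exact absurd (by simpa using e) hzT
          · exact absurd (eq_inv_of_mul_eq_one_right e) hzne
      · rw [if_neg (by omega)]
        rw [ha, hb, pow_zero, pow_one, one_mul] at hmk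
        exact horb χ _ 0 (Or.inr (Or.inl hmk))
      · rw [if_neg (by omega)]
        rw [ha, hb, pow_zero, pow_one, mul_one] at hmk
        exact horb χ _ 0 (Or.inl hmk)
      · rw [if_neg (by omega)]
        rw [ha, hb, pow_one, pow_one, hy.orbits.plane_mul] at hmk
        exact horb χ _ 0 (Or.inr (Or.inr hmk))
    have hcard : Nat.card (Multiplicative (ZMod 4 × ZMod 4)) = 16 := by
      rw [Nat.card_congr Multiplicative.toAdd, Nat.card_prod, Nat.card_zmod]
    simp only [classInner, hcard, MonoidHom.coe_comp, Function.comp_apply, Subgroup.coe_subtype, hval] at hm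
    rw [← Equiv.sum_comp (Multiplicative.ofAdd : ZMod 4 × ZMod 4 ≃ _), Fintype.sum_prod_type] at hm
    simp only [ψ, MonoidHom.mk'_apply, toAdd_ofAdd] at hm
    have hs4 : ∀ g : ZMod 4 → ℂ, ∑ a, g a = g 0 + g 1 + g 2 + g 3 := fun g => Fin.sum_univ_four g
    simp only [hs4, show (0 : ZMod 4).val = 0 from rfl, show (1 : ZMod 4).val = 1 from rfl,
      show (2 : ZMod 4).val = 2 from rfl, show (3 : ZMod 4).val = 3 from rfl] at hm
    simp [pow_succ] at hm
    have h1 : ((d χ - v χ : ℤ) : ℂ) = ((16 * (m : ℤ) : ℤ) : ℂ) := by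
      push_cast
      linear_combination 16 * hm
    exact ⟨m, by exact_mod_cast h1⟩
  -- sections
  have hO : ∀ s : ↥(S : Subgroup G), s ≠ 1 → ∃ O : Subgroup G,
      TwoCompl (s : G) O (if s ∈ (Subgroup.center ↥(S : Subgroup G)) then 6 else 4) := fun s hs => by
    obtain ⟨O, h1, h2, h3, h4⟩ := hc.exists_complement_self S h s.2 fun e => hs (Subtype.ext e)
    refine ⟨O, h1, h2, h3, ?_⟩
    rw [h4]
    by_cases hsZ : s ∈ (Subgroup.center ↥(S : Subgroup G))
    · rw [if_pos hsZ, if_pos ((Crit.mem_center_iff S h s).1 hsZ)]; rfl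
    · rw [if_neg hsZ, if_neg fun e => hsZ ((Crit.mem_center_iff S h s).2 e)]; rfl
  have htne : ∀ i, t i ≠ 1 := fun i e => htZ i (e ▸ (Subgroup.center ↥(S : Subgroup G)).one_mem)
  have htord : ∀ i, ∃ j : ℕ, orderOf (t i : G) = 2 ^ j := fun i => ⟨2, Crit.sq_of_not_center S h (htZ i)⟩
  obtain ⟨Oz, hOz⟩ := hO ⟨z, hy.hz.1⟩ fun e => hy.hz1 (congrArg Subtype.val e)
  rw [if_pos ((Crit.mem_center_iff S h _).2 hy.hz)] at hOz
  have hOt : ∀ i, ∃ O, TwoCompl (t i : G) O 4 := fun i => by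
    obtain ⟨O, hO'⟩ := hO (t i) (htne i)
    rw [if_neg (htZ i)] at hO'
    exact ⟨O, hO'⟩
  set B := Finset.univ.filter (· ∈ principalBlock M G) with hB
  have hnormT : ∀ i, ∑ χ ∈ B, c χ i * c χ i = 16 := fun i => by
    obtain ⟨O, hO'⟩ := hOt i
    have h1 := hO'.principal_norm hM (htord i)
    simp only [Set.indicator_apply, ← Finset.sum_filter, hcval, map_intCast] at h1
    exact_mod_cast h1
  have hnormz : ∑ χ ∈ B, v χ * v χ = 64 := by
    have h1 := hOz.principal_norm hM ⟨1, hzord⟩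
    simp only [Set.indicator_apply, ← Finset.sum_filter, hvval, map_intCast] at h1
    exact_mod_cast h1
  have hpp : ∀ g : G, (∃ j : ℕ, orderOf g = 2 ^ j) → IsPPart 2 g g := fun g hg => by
    have := Blocks.isPPart_mul (p := 2) (Commute.one_right g) hg (by rw [orderOf_one]; norm_num)
    rwa [mul_one] at this
  have horth : ∀ i j, i ≠ j → ∑ χ ∈ B, c χ i * c χ j = 0 := fun i j hij => by
    have h1 := Blocks.sum_block_eq_zero_of_not_isConj hM (Blocks.isPBlock_principalBlock M)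
      (hpp _ (htord i)) (hpp _ (htord j)) fun e => hij ?_
    · simp only [irr_apply_inv, hcval, map_intCast] at h1
      exact_mod_cast h1
    · refine hy.orbits.orbit_eq (v := w j) ?_ (Or.inl rfl)
      rw [← htw i, ← htw j]
      exact hc.orbit_of_isConj S h hy (htne i) e
  have horthz : ∀ i, ∑ χ ∈ B, c χ i * v χ = 0 := fun i => by
    have h1 := Blocks.sum_block_eq_zero_of_not_isConj hM (Blocks.isPBlock_principalBlock M)
      (hpp _ (htord i)) (hpp z ⟨1, hzord⟩) fun e => ?_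
    · simp only [irr_apply_inv, hcval, hvval, map_intCast] at h1
      exact_mod_cast h1
    · obtain ⟨g, hg⟩ := isConj_iff.1 e
      have h2 : orderOf (g * (t i : G) * g⁻¹) = orderOf (t i : G) :=
        orderOf_injective (MulAut.conj g).toMonoidHom (MulAut.conj g).injective _
      rw [hg, hzord, Crit.sq_of_not_center S h (htZ i)] at h2
      norm_num at h2
  have hpair : ∀ i, ∑ χ ∈ B, (c χ i : ℚ) * ((v χ * v χ : ℚ) / d χ) = 0 := fun i => by
    obtain ⟨O, hO'⟩ := hOt i
    have h1 := ClassCount.card_pairs_mul_centralizers z z (sect (t i : G))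
    rw [hc.pairs_empty S h hy.hz (htZ i), Finset.card_empty, Nat.cast_zero, zero_mul,
      zero_mul] at h1
    simp only [hO'.sum_sect_apply hM (htord i)] at h1
    have hterm : ∀ χ : IrrCharacter G, (ClassCount.cofDegree χ : ℂ) *
        ((χ : G → ℂ) z * (χ : G → ℂ) z * ((Nat.card G : ℂ) *
          Set.indicator (principalBlock M G) (fun ζ => conj ((ζ : G → ℂ) (t i : G)) /
            ((2 ^ 4 : ℕ) : ℂ)) χ)) =
        ((Nat.card G : ℂ) * (Nat.card G : ℂ) / 16) *
          (if χ ∈ principalBlock M G then (c χ i : ℂ) * ((v χ * v χ : ℂ) / d χ) else 0) := fun χ => by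
      rw [Set.indicator_apply]
      split_ifs
      · rw [hvval, hcval, map_intCast, ← ClassCount.card_div_degree, hdval]
        push_cast
        ring
      · ring
    rw [Finset.sum_congr rfl fun χ _ => hterm χ, ← Finset.mul_sum, ← Finset.sum_filter, eq_comm,
      mul_eq_zero] at h1
    have hne : ((Nat.card G : ℂ) * (Nat.card G : ℂ) / 16) ≠ 0 := by
      simp
    have h2 := h1.resolve_left hne
    have h3 : ((∑ χ ∈ B, (c χ i : ℚ) * ((v χ * v χ : ℚ) / d χ) : ℚ) : ℂ) = 0 := by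
      rw [← h2]
      push_cast
      rfl
    exact_mod_cast h3
  -- the vectors
  let P := principalIrr G
  have hP : P ∈ B := Finset.mem_filter.2 ⟨Finset.mem_univ _, Blocks.mem_blockOf_self hM P⟩
  have hPd : d P = 1 := by
    have h1 := hdval P
    have h2 : (P : G → ℂ) 1 = ((1 : ℤ) : ℂ) := by simp [P, principalIrr]
    exact_mod_cast h1.symm.trans h2
  have hPv : v P = 1 := by
    have h1 := hvval P
    have h2 : (P : G → ℂ) z = ((1 : ℤ) : ℂ) := by simp [P, principalIrr]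
    exact_mod_cast h1.symm.trans h2
  have hPc : ∀ i, c P i = 1 := fun i => by
    have h1 := hcval P i
    have h2 : (P : G → ℂ) (t i : G) = ((1 : ℤ) : ℂ) := by simp [P, principalIrr]
    exact_mod_cast h1.symm.trans h2
  let E : IrrCharacter G → Fin 5 → ℤ := fun χ i => ((∑ j, c χ j) - c χ i) / 4
  have hE : ∀ χ i, 4 * E χ i = (∑ j, c χ j) - c χ i := fun χ i => Int.mul_ediv_cancel' (hdiv χ i)
  have hEP : ∀ i, E P i = 1 := fun i => by
    have h1 := hE P i
    simp only [hPc] at h1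
    simp at h1
    omega
  have hEsum : ∀ χ, ∑ i, E χ i = ∑ j, c χ j := fun χ => by
    have h1 : 4 * ∑ i, E χ i = 5 * (∑ j, c χ j) - ∑ j, c χ j := by
      rw [Finset.mul_sum, Finset.sum_congr rfl fun i _ => hE χ i, Finset.sum_sub_distrib]
      simp
    omega
  let ι := {χ : IrrCharacter G // χ ∈ B.erase P}
  have hι : ∀ {R : Type} [AddCommGroup R] (f : IrrCharacter G → R),
      ∑ χ : ι, f χ.1 = ∑ χ ∈ B, f χ - f P := by
    intro R _ f
    rw [Finset.sum_coe_sort (B.erase P) f, Finset.sum_erase_eq_sub hP]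
  refine Arith.system_absurd (ι := ι) (fun i χ => E χ.1 i) (fun χ => d χ.1) (fun χ => v χ.1)
    (fun i j => ?_) (fun χ => ?_) (fun i => ?_) (fun i => ?_) ?_ (fun χ => ?_) (fun χ => h16 χ.1)
  · rw [hι (fun χ => E χ i * E χ j), hEP, hEP]
    have h1 : 16 * ∑ χ ∈ B, E χ i * E χ j = ∑ χ ∈ B, (∑ k, c χ k) * (∑ k, c χ k) -
        ∑ χ ∈ B, (∑ k, c χ k) * c χ i - ∑ χ ∈ B, (∑ k, c χ k) * c χ j + ∑ χ ∈ B, c χ i * c χ j := by
      rw [Finset.mul_sum, ← Finset.sum_sub_distrib, ← Finset.sum_sub_distrib, ← Finset.sum_add_distrib]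
      refine Finset.sum_congr rfl fun χ _ => ?_
      rw [show 16 * (E χ i * E χ j) = (4 * E χ i) * (4 * E χ j) by ring, hE, hE]
      ring
    have hCc : ∀ k, ∑ χ ∈ B, (∑ l, c χ l) * c χ k = 16 := fun k => by
      simp only [Finset.sum_mul]
      rw [Finset.sum_comm, Finset.sum_eq_single k (fun l _ hl => horth l k hl) (by simp)]
      exact hnormT k
    have hCC : ∑ χ ∈ B, (∑ k, c χ k) * (∑ k, c χ k) = 80 := by
      simp only [Finset.mul_sum]
      rw [Finset.sum_comm, Finset.sum_congr rfl fun k _ => hCc k]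
      simp
    have hij : ∑ χ ∈ B, c χ i * c χ j = if i = j then 16 else 0 := by
      split_ifs with e
      · rw [e]; exact hnormT j
      · exact horth i j e
    rw [hCC, hCc, hCc, hij] at h1
    split_ifs at h1 ⊢ <;> omega
  · have h1 : charDegree (χ.1 : G → ℂ) ≠ 1 := fun e =>
      (Finset.mem_erase.1 χ.2).1 (linear_eq_principal hc.nonab _ e)
    have := hdpos χ.1
    simp only [d] at this ⊢
    omega
  · rw [hι (fun χ => E χ i * v χ), hEP, hPv]
    have h1 : 4 * ∑ χ ∈ B, E χ i * v χ = 0 := by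
      rw [Finset.mul_sum, Finset.sum_congr rfl fun χ _ => show 4 * (E χ i * v χ) =
        (∑ k, c χ k * v χ) - c χ i * v χ by rw [← mul_assoc, hE, sub_mul, Finset.sum_mul],
        Finset.sum_sub_distrib, Finset.sum_comm, horthz,
        Finset.sum_eq_zero fun k _ => horthz k, sub_zero]
    omega
  · rw [hι (fun χ => (E χ i : ℚ) * ((v χ * v χ : ℚ) / d χ)), hEP, hPv, hPd]
    have h1 : (4 : ℚ) * ∑ χ ∈ B, (E χ i : ℚ) * ((v χ * v χ : ℚ) / d χ) = 0 := by
      rw [Finset.mul_sum, Finset.sum_congr rfl fun χ _ => show (4 : ℚ) * ((E χ i : ℚ) * ((v χ * v χ : ℚ) / d χ)) =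
        (∑ k, (c χ k : ℚ) * ((v χ * v χ : ℚ) / d χ)) - (c χ i : ℚ) * ((v χ * v χ : ℚ) / d χ) by
          rw [← Finset.sum_mul, ← sub_mul, ← mul_assoc]
          congr 1
          exact_mod_cast hE χ i,
        Finset.sum_sub_distrib, Finset.sum_comm, hpair, Finset.sum_eq_zero fun k _ => hpair k,
        sub_zero]
    push_cast
    linarith
  · rw [hι (fun χ => v χ * v χ), hnormz, hPv]; norm_num
  · rw [hEsum]; exact hcong χ.1

end Hyp

end CfsgLib.TwoNil
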